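import Mathlib
import Cfsg.Agent.Lib.Local.SL2Involved

/-!
# Groups with `p`-closed local subgroups do not involve `Qd(p)`
-/

set_option autoImplicit false
set_option linter.unusedSectionVars false

namespace Cfsg.Lib.U3Qd

open Subgroup Matrix Cfsg.Lib.Local Cfsg.Lib.FusionSys
open scoped MatrixGroups

universe u

/-- An element of `p`-power order. -/
def IsPElt (p : ℕ) {G : Type*} [Monoid G] (a : G) : Prop := ∃ k : ℕ, a ^ p ^ k = 1

theorem IsPElt.map {p : ℕ} {G H : Type*} [Monoid G] [Monoid H] (f : G →* H) {a : G} (h : IsPElt p a) :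
    IsPElt p (f a) := by
  obtain ⟨k, hk⟩ := h
  exact ⟨k, by rw [← map_pow, hk, map_one]⟩

theorem sl2_trace_of_pelt {p : ℕ} [Fact p.Prime] {c : SL(2, ZMod p)} (hc : IsPElt p c) :
    (c : Matrix (Fin 2) (Fin 2) (ZMod p)).trace = 2 := by
  obtain ⟨k, hk⟩ := hc
  have hk' : (c : Matrix (Fin 2) (Fin 2) (ZMod p)) ^ p ^ k = 1 := by
    rw [← Matrix.SpecialLinearGroup.coe_pow, hk, Matrix.SpecialLinearGroup.coe_one]
  have hn : IsNilpotent ((c : Matrix (Fin 2) (Fin 2) (ZMod p)) - 1) :=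
    ⟨p ^ k, by rw [sub_pow_char_pow_of_commute _ _ (Commute.one_right _), hk', one_pow, sub_self]⟩
  have h0 := (Matrix.isNilpotent_trace_of_isNilpotent hn).eq_zero
  rw [Matrix.trace_sub, Matrix.trace_one, sub_eq_zero] at h0
  simpa using h0

theorem not_involves_qd {p : ℕ} [Fact p.Prime] {G : Type u} [Group G] [Finite G]
    (h : ∀ P : Subgroup G, IsPGroup p P → P ≠ ⊥ → ∀ a ∈ normalizer (P : Set G), ∀ b ∈ normalizer (P : Set G),
      IsPElt p a → IsPElt p b → IsPElt p (a * b)) : ¬ Involves (qd p) G := by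
  intro hinv
  obtain ⟨K, f, hf⟩ := involves_iff_exists_hom.1 hinv
  set g : K →* SL(2, ZMod p) := (QdGroup.block p).comp f with hg
  set T : Subgroup K := (QdGroup.block p).ker.comap f with hT
  haveI : T.Normal := Subgroup.Normal.comap inferInstance f
  have hdvd : p ∣ Nat.card T := by
    let r : T →* (QdGroup.block p).ker := (f.comp T.subtype).codRestrict _ fun x => x.2
    have hr : Function.Surjective r := fun v => by
      obtain ⟨x, hx⟩ := hf v
      exact ⟨⟨x, show f x ∈ (QdGroup.block p).ker from hx ▸ v.2⟩, Subtype.ext hx⟩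
    refine dvd_trans ?_ (Subgroup.card_dvd_of_surjective r hr)
    rw [QdGroup.card_ker_block]
    exact dvd_pow_self p (by norm_num)
  obtain ⟨P₀⟩ : Nonempty (Sylow p T) := inferInstance
  have hP₀ : (P₀ : Subgroup T) ≠ ⊥ := P₀.ne_bot_of_dvd_card hdvd
  set P₁ : Subgroup K := (P₀ : Subgroup T).map T.subtype with hP₁
  set P : Subgroup G := P₁.map K.subtype with hP
  have hPp : IsPGroup p P := (P₀.2.map T.subtype).map K.subtype
  have hPne : P ≠ ⊥ := fun e => hP₀ (by
    rw [hP, hP₁, Subgroup.map_eq_bot_iff_of_injective _ K.subtype_injective,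
      Subgroup.map_eq_bot_iff_of_injective _ T.subtype_injective] at e
    exact e)
  have hfr : normalizer (P₁ : Set K) ⊔ T = ⊤ := Sylow.normalizer_sup_eq_top P₀
  have hsurj : ∀ A : SL(2, ZMod p), ∃ n ∈ normalizer (P₁ : Set K), g n = A := by
    intro A
    obtain ⟨x, hx⟩ := ((QdGroup.block_surjective p).comp hf) A
    have hxt : x ∈ normalizer (P₁ : Set K) ⊔ T := by rw [hfr]; exact Subgroup.mem_top x
    rw [← SetLike.mem_coe, Subgroup.mul_normal] at hxt
    obtain ⟨n, hn, t, ht, rfl⟩ := Set.mem_mul.1 hxt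
    refine ⟨n, hn, ?_⟩
    have ht' : g t = 1 := MonoidHom.mem_ker.1 ht
    have hx' : g (n * t) = A := hx
    rwa [map_mul, ht', mul_one] at hx'
  have hlift : ∀ A : SL(2, ZMod p), ∃ (n : K) (m : ℕ), ¬ p ∣ m ∧ (n : G) ∈ normalizer (P : Set G) ∧
      IsPElt p n ∧ g n = A ^ m := by
    intro A
    obtain ⟨n, hn, hgn⟩ := hsurj A
    obtain ⟨k, m, hm, he⟩ := Nat.exists_eq_pow_mul_and_not_dvd (orderOf_pos n).ne' p (Fact.out : p.Prime).ne_one
    refine ⟨n ^ m, m, hm, ?_, ⟨k, ?_⟩, by rw [map_pow, hgn]⟩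
    · have : n ^ m ∈ normalizer (P₁ : Set K) := pow_mem hn m
      exact Subgroup.le_normalizer_map K.subtype (Subgroup.mem_map_of_mem K.subtype this)
    · rw [← pow_mul, mul_comm, ← he, pow_orderOf_eq_one]
  have hpow : ∀ (s : ZMod p) (m : ℕ), (!![1, s; 0, 1] : Matrix (Fin 2) (Fin 2) (ZMod p)) ^ m = !![1, m * s; 0, 1] ∧
      (!![1, 0; s, 1] : Matrix (Fin 2) (Fin 2) (ZMod p)) ^ m = !![1, 0; m * s, 1] := by
    intro s m
    induction m with
    | zero => constructor <;> (rw [pow_zero]; ext i j; fin_cases i <;> fin_cases j <;> simp)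
    | succ m ih =>
      constructor
      · rw [pow_succ, ih.1, Matrix.mul_fin_two]
        ext i j; fin_cases i <;> fin_cases j <;> simp <;> ring
      · rw [pow_succ, ih.2, Matrix.mul_fin_two]
        ext i j; fin_cases i <;> fin_cases j <;> simp <;> ring
  let U : SL(2, ZMod p) := ⟨!![1, 1; 0, 1], by simp [Matrix.det_fin_two]⟩
  let L : SL(2, ZMod p) := ⟨!![1, 0; 1, 1], by simp [Matrix.det_fin_two]⟩
  obtain ⟨a, m, hm, ha, hap, hga⟩ := hlift U
  obtain ⟨b, m', hm', hb, hbp, hgb⟩ := hlift L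
  have hab : IsPElt p (a * b) := by
    obtain ⟨k, hk⟩ := h P hPp hPne a ha b hb (hap.map K.subtype) (hbp.map K.subtype)
    exact ⟨k, Subtype.ext (by simpa using hk)⟩
  have htr := sl2_trace_of_pelt (hab.map g)
  rw [map_mul, hga, hgb, Matrix.SpecialLinearGroup.coe_mul, Matrix.SpecialLinearGroup.coe_pow,
    Matrix.SpecialLinearGroup.coe_pow] at htr
  simp only [U, L, (hpow 1 m).1, (hpow 1 m').2, Matrix.mul_fin_two, Matrix.trace_fin_two] at htr
  simp at htr
  have hz : (m : ZMod p) * (m' : ZMod p) = 0 := by linear_combination htr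
  rcases mul_eq_zero.1 hz with e | e
  · exact hm ((ZMod.natCast_eq_zero_iff _ _).1 e)
  · exact hm' ((ZMod.natCast_eq_zero_iff _ _).1 e)

end Cfsg.Lib.U3Qd
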