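import Cfsg.Agent.Lib.U3Qd.Basic
import Cfsg.Prelude.Def_Classical

/-!
# Local subgroups of `SU₃(q)` in defining characteristic are `p`-closed
-/

set_option autoImplicit false
set_option linter.unusedSectionVars false

namespace Cfsg.Lib.U3Qd

open Matrix

variable {K : Type*} [Field K] [Fintype K] {p n : ℕ} [Fact p.Prime] [CharP K p]

local notation "V" => Fin 3 → K

/-- The Hermitian form. -/
abbrev hf (q : ℕ) (u v : Fin 3 → K) : K := Cfsg.hermForm 3 K q u v

/-- The matrix of an element. -/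
abbrev mat {q : ℕ} (g : Cfsg.SU 3 K q) : Matrix (Fin 3) (Fin 3) K := (g.1 : Matrix (Fin 3) (Fin 3) K)

theorem mat_preserves {q : ℕ} (g : Cfsg.SU 3 K q) (u v : Fin 3 → K) : hf q (mat g *ᵥ u) (mat g *ᵥ v) = hf q u v :=
  g.2 u v

theorem mat_mul {q : ℕ} (g h : Cfsg.SU 3 K q) (v : Fin 3 → K) : mat (g * h) *ᵥ v = mat g *ᵥ (mat h *ᵥ v) := by
  simp [mat, Matrix.mulVec_mulVec]

theorem mat_one {q : ℕ} (v : Fin 3 → K) : mat (1 : Cfsg.SU 3 K q) *ᵥ v = v := by simp [mat]

theorem mat_pow {q : ℕ} (g : Cfsg.SU 3 K q) (k : ℕ) : mat (g ^ k) = mat g ^ k := by simp [mat]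

theorem hf_sub (u u' v : Fin 3 → K) (q : ℕ) : hf q (u - u') v = hf q u v - hf q u' v := by
  simp [hf, Cfsg.hermForm, Fin.sum_univ_three]; ring

theorem hf_add (u u' v : Fin 3 → K) (q : ℕ) : hf q (u + u') v = hf q u v + hf q u' v := by
  simp [hf, Cfsg.hermForm, Fin.sum_univ_three]; ring

theorem hf_smul (c : K) (u v : Fin 3 → K) (q : ℕ) : hf q (c • u) v = c * hf q u v := by
  simp [hf, Cfsg.hermForm, Fin.sum_univ_three]; ring

theorem hf_smul_right (c : K) (u v : Fin 3 → K) (q : ℕ) : hf q u (c • v) = c ^ q * hf q u v := by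
  simp [hf, Cfsg.hermForm, Fin.sum_univ_three, mul_pow]; ring

theorem hf_swap (hK : Fintype.card K = (p ^ n) ^ 2) (u v : Fin 3 → K) :
    hf (p ^ n) v u = hf (p ^ n) u v ^ (p ^ n) := by
  have e : ∀ x : K, (x ^ (p ^ n)) ^ (p ^ n) = x := fun x => by
    rw [← pow_mul, ← pow_two, ← hK, FiniteField.pow_card]
  simp only [hf, Cfsg.hermForm, Fin.sum_univ_three, add_pow_char_pow, mul_pow, e]
  ring

/-- Vectors annihilated by two independent vectors lie on one line. -/
theorem parallel_of_dots {a b w : Fin 3 → K} (ha : w 0 * a 0 + w 1 * a 1 + w 2 * a 2 = 0)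
    (hb : w 0 * b 0 + w 1 * b 1 + w 2 * b 2 = 0) :
    w 0 * (a 2 * b 0 - a 0 * b 2) = w 1 * (a 1 * b 2 - a 2 * b 1) ∧
    w 0 * (a 0 * b 1 - a 1 * b 0) = w 2 * (a 1 * b 2 - a 2 * b 1) ∧
    w 1 * (a 0 * b 1 - a 1 * b 0) = w 2 * (a 2 * b 0 - a 0 * b 2) := by
  refine ⟨?_, ?_, ?_⟩
  · linear_combination a 2 * hb - b 2 * ha
  · linear_combination b 1 * ha - a 1 * hb
  · linear_combination a 0 * hb - b 0 * ha

/-- Two isolated vectors orthogonal to two independent vectors are proportional. -/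
theorem proportional_of_orth {q : ℕ} (hσ : Function.Injective fun x : K => x ^ q) (hσ' : Function.Surjective fun x : K => x ^ q)
    {a b r w : Fin 3 → K} (hind : ∀ c : K, a ≠ c • b) (hb0 : b ≠ 0) (hr : r ≠ 0)
    (hra : hf q r a = 0) (hrb : hf q r b = 0) (hwa : hf q w a = 0) (hwb : hf q w b = 0) :
    ∃ c : K, w = c • r := by
  set A : Fin 3 → K := fun i => a i ^ q with hA
  set B : Fin 3 → K := fun i => b i ^ q with hB
  set N : Fin 3 → K := ![A 1 * B 2 - A 2 * B 1, A 2 * B 0 - A 0 * B 2, A 0 * B 1 - A 1 * B 0] with hN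
  simp only [hf, Cfsg.hermForm, Fin.sum_univ_three] at hra hrb hwa hwb
  have key : ∀ x : Fin 3 → K, x 0 * A 0 + x 1 * A 1 + x 2 * A 2 = 0 → x 0 * B 0 + x 1 * B 1 + x 2 * B 2 = 0 →
      ∀ i j, x i * N j = x j * N i := by
    intro x hx hy i j
    obtain ⟨e1, e2, e3⟩ := parallel_of_dots hx hy
    fin_cases i <;> fin_cases j <;> simp [hN, e1, e2, e3]
  have kr := key r hra hrb
  have kw := key w hwa hwb
  obtain ⟨i, hi⟩ : ∃ i, N i ≠ 0 := by
    by_contra hc
    simp only [not_exists, ne_eq, not_not] at hc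
    obtain ⟨k, hk⟩ : ∃ k, B k ≠ 0 := by
      by_contra hc'
      simp only [not_exists, ne_eq, not_not] at hc'
      refine hb0 (funext fun k => hσ ?_)
      show b k ^ q = (0 : K) ^ q
      rw [show b k ^ q = 0 from hc' k, zero_pow]
      rintro rfl
      exact zero_ne_one (hσ (show (0 : K) ^ 0 = (1 : K) ^ 0 by simp))
    obtain ⟨c, hc'⟩ := hσ' (A k / B k)
    simp only at hc'
    have hAB : ∀ i j, A i * B j = A j * B i := by
      have h0 := hc 0
      have h1 := hc 1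
      have h2 := hc 2
      simp [hN, sub_eq_zero] at h0 h1 h2
      intro i j
      fin_cases i <;> fin_cases j <;> simp [h0, h1, h2]
    refine hind c (funext fun j => hσ ?_)
    show a j ^ q = (c • b) j ^ q
    rw [Pi.smul_apply, smul_eq_mul, mul_pow, hc']
    show A j = A k / B k * B j
    rw [div_mul_eq_mul_div, eq_div_iff hk, hAB j k]
  have hri : r i ≠ 0 := fun e => hr (funext fun j => by
    have := kr i j
    rw [e, zero_mul] at this
    exact (mul_eq_zero.1 this.symm).resolve_right hi)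
  refine ⟨w i / r i, funext fun j => ?_⟩
  have h1 := kr i j
  have h2 := kw i j
  rw [Pi.smul_apply, smul_eq_mul]
  field_simp
  exact mul_right_cancel₀ hi (by linear_combination (w i) * h1 - (r i) * h2)

variable (hK : Fintype.card K = (p ^ n) ^ 2)

include hK

theorem sigma_bij : Function.Bijective fun x : K => x ^ (p ^ n) := by
  refine Finite.injective_iff_bijective.mp fun x y h => ?_
  have h' := congrArg (fun z : K => z ^ (p ^ n)) h
  simpa only [← pow_mul, ← pow_two, ← hK, FiniteField.pow_card] using h'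

/-- An isotropic vector is orthogonal only to its multiples among isotropic vectors. -/
theorem isotropic_line {r s : Fin 3 → K} (hr : r ≠ 0) (hrr : hf (p ^ n) r r = 0) (hss : hf (p ^ n) s s = 0)
    (hsr : hf (p ^ n) s r = 0) : ∃ c : K, s = c • r := by
  by_contra hcon
  simp only [not_exists] at hcon
  have hrs : hf (p ^ n) r s = 0 := by
    rw [hf_swap hK s r, hsr, zero_pow (pow_ne_zero n (Fact.out : p.Prime).ne_zero)]
  obtain ⟨c, hc⟩ := proportional_of_orth (sigma_bij hK).1 (sigma_bij hK).2 hcon hr hr hrs hrr hss hsr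
  exact hcon c hc

/-- A nontrivial `p`-subgroup fixes an isotropic vector orthogonal to all its fixed vectors. -/
theorem exists_fixed_radical {P : Subgroup (Cfsg.SU 3 K (p ^ n))} (hP : IsPGroup p P) (hne : P ≠ ⊥) :
    ∃ r : Fin 3 → K, r ≠ 0 ∧ (∀ g ∈ P, mat g *ᵥ r = r) ∧
      ∀ w : Fin 3 → K, (∀ g ∈ P, mat g *ᵥ w = w) → hf (p ^ n) r w = 0 := by
  let D : AddSubgroup (Fin 3 → K) := AddSubgroup.closure {x | ∃ g ∈ P, ∃ v, x = mat g *ᵥ v - v}
  letI : MulAction P D :=
    { smul := fun g d => ⟨mat (g : Cfsg.SU 3 K (p ^ n)) *ᵥ (d : Fin 3 → K), by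
        obtain ⟨d, hd⟩ := d
        show mat (g : Cfsg.SU 3 K (p ^ n)) *ᵥ d ∈ D
        induction hd using AddSubgroup.closure_induction with
        | mem x hx =>
          obtain ⟨h, hh, v, rfl⟩ := hx
          rw [Matrix.mulVec_sub, ← mat_mul,
            show mat ((g : Cfsg.SU 3 K (p ^ n)) * h) *ᵥ v - mat (g : Cfsg.SU 3 K (p ^ n)) *ᵥ v =
              (mat ((g : Cfsg.SU 3 K (p ^ n)) * h) *ᵥ v - v) - (mat (g : Cfsg.SU 3 K (p ^ n)) *ᵥ v - v) by abel]
          exact D.sub_mem (AddSubgroup.subset_closure ⟨_, P.mul_mem g.2 hh, v, rfl⟩)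
            (AddSubgroup.subset_closure ⟨_, g.2, v, rfl⟩)
        | zero => simp
        | add x y _ _ hx hy => rw [Matrix.mulVec_add]; exact D.add_mem hx hy
        | neg x _ hx => rw [Matrix.mulVec_neg]; exact D.neg_mem hx⟩
      one_smul := fun d => Subtype.ext (mat_one _)
      mul_smul := fun g h d => Subtype.ext (mat_mul _ _ _) }
  haveI : Nontrivial D := by
    obtain ⟨g, hg, hg1⟩ := (Subgroup.ne_bot_iff_exists_ne_one.1 hne).elim fun g hg =>
      (⟨g.1, g.2, fun e => hg (Subtype.ext e)⟩ : ∃ g ∈ P, g ≠ 1)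
    obtain ⟨v, hv⟩ : ∃ v, mat g *ᵥ v - v ≠ 0 := by
      by_contra hc
      simp only [not_exists, ne_eq, not_not, sub_eq_zero] at hc
      exact hg1 (Subtype.ext (Subtype.ext (Matrix.ext_of_mulVec_single fun i =>
        (hc (Pi.single i 1)).trans (Matrix.one_mulVec _).symm)))
    exact ⟨⟨⟨_, AddSubgroup.subset_closure ⟨g, hg, v, rfl⟩⟩, 0, fun e => hv (congrArg Subtype.val e)⟩⟩
  have hdvd : p ∣ Nat.card D := by
    have h1 : Nat.card D ∣ p ^ (n * 2 * 3) := by
      have := D.card_addSubgroup_dvd_card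
      rw [Nat.card_eq_fintype_card (α := Fin 3 → K), Fintype.card_fun, hK, Fintype.card_fin] at this
      rwa [pow_mul, pow_mul]
    obtain ⟨k, -, hk⟩ := (Nat.dvd_prime_pow (Fact.out : p.Prime)).1 h1
    have h2 : 1 < Nat.card D := Finite.one_lt_card
    rw [hk] at h2 ⊢
    exact dvd_pow_self p (by rintro rfl; simp at h2)
  obtain ⟨d, hd, hd0⟩ := hP.exists_fixed_point_of_prime_dvd_card_of_fixed_point D hdvd
    (a := 0) (fun g => Subtype.ext (show mat (g : Cfsg.SU 3 K (p ^ n)) *ᵥ (0 : Fin 3 → K) = 0 from Matrix.mulVec_zero _))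
  refine ⟨(d : Fin 3 → K), fun e => hd0 (Subtype.ext e.symm), fun g hg => congrArg Subtype.val (hd ⟨g, hg⟩), fun w hw => ?_⟩
  obtain ⟨x, hx⟩ := d
  show hf (p ^ n) x w = 0
  clear hd hd0
  induction hx using AddSubgroup.closure_induction with
  | mem x hx =>
    obtain ⟨g, hg, v, rfl⟩ := hx
    rw [hf_sub, sub_eq_zero]
    conv_lhs => rw [← hw g hg, mat_preserves]
  | zero => simp [hf, Cfsg.hermForm]
  | add x y _ _ hx hy => rw [hf_add, hx, hy, add_zero]
  | neg x _ hx => rw [← neg_one_smul K x, hf_smul, hx, mul_zero]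

/-- The unipotent radical of the stabiliser of an isotropic line. -/
def InRadical (r : Fin 3 → K) (g : Cfsg.SU 3 K (p ^ n)) : Prop :=
  mat g *ᵥ r = r ∧ ∀ v, hf (p ^ n) v r = 0 → ∃ c : K, mat g *ᵥ v = v + c • r

theorem inRadical_mul {r : Fin 3 → K} {a b : Cfsg.SU 3 K (p ^ n)} (ha : InRadical r a) (hb : InRadical r b) :
    InRadical r (a * b) := by
  refine ⟨by rw [mat_mul, hb.1, ha.1], fun v hv => ?_⟩
  obtain ⟨c, hc⟩ := hb.2 v hv
  obtain ⟨d, hd⟩ := ha.2 v hv
  exact ⟨d + c, by rw [mat_mul, hc, Matrix.mulVec_add, Matrix.mulVec_smul, ha.1, hd, add_smul, add_assoc]⟩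

theorem inRadical_pelt {r : Fin 3 → K} {g : Cfsg.SU 3 K (p ^ n)} (hg : InRadical r g) : IsPElt p g := by
  set N : Matrix (Fin 3) (Fin 3) K := mat g - 1 with hN
  have hNv : ∀ v, N *ᵥ v = mat g *ᵥ v - v := fun v => by rw [hN, Matrix.sub_mulVec, Matrix.one_mulVec]
  have h3 : ∀ v, N *ᵥ (N *ᵥ (N *ᵥ v)) = 0 := fun v => by
    have h1 : hf (p ^ n) (N *ᵥ v) r = 0 := by
      rw [hNv, hf_sub, sub_eq_zero]
      conv_lhs => rw [← hg.1, mat_preserves]
    obtain ⟨c, hc⟩ := hg.2 _ h1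
    rw [hNv (N *ᵥ v), hc, add_sub_cancel_left, Matrix.mulVec_smul, hNv r, hg.1, sub_self, smul_zero]
  have hN3 : N ^ 3 = 0 := Matrix.ext_of_mulVec_single fun i => by
    rw [pow_succ, pow_two, ← Matrix.mulVec_mulVec, ← Matrix.mulVec_mulVec, h3, Matrix.zero_mulVec]
  have hp3 : 3 ≤ p ^ 2 := by
    have := (Fact.out : p.Prime).two_le
    nlinarith
  refine ⟨2, Subtype.ext (Subtype.ext ?_)⟩
  show mat (g ^ p ^ 2) = 1
  rw [mat_pow, show mat g = N + 1 by rw [hN]; abel, add_pow_char_pow_of_commute _ _ (Commute.one_right _),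
    pow_eq_zero_of_le hp3 hN3, one_pow, zero_add]

theorem pelt_inRadical {r : Fin 3 → K} (hr : r ≠ 0) (hrr : hf (p ^ n) r r = 0) {g : Cfsg.SU 3 K (p ^ n)}
    (hline : ∃ l : K, mat g *ᵥ r = l • r) (hg : IsPElt p g) : InRadical r g := by
  obtain ⟨k, hk⟩ := hg
  have hpk : mat g ^ p ^ k = 1 := by rw [← mat_pow, hk]; simp [mat]
  have one_of : ∀ x : K, x ^ p ^ k = 1 → x = 1 := fun x hx => by
    have h : (x - 1) ^ p ^ k = 0 := by rw [sub_pow_char_pow, hx, one_pow, sub_self]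
    exact sub_eq_zero.1 (pow_eq_zero_iff (pow_ne_zero k (Fact.out : p.Prime).ne_zero) |>.1 h)
  obtain ⟨l, hl⟩ := hline
  have hlk : ∀ m : ℕ, mat g ^ m *ᵥ r = l ^ m • r := by
    intro m
    induction m with
    | zero => simp
    | succ m ih => rw [pow_succ, ← Matrix.mulVec_mulVec, hl, Matrix.mulVec_smul, ih, smul_smul, pow_succ']
  have hl1 : l = 1 := by
    refine one_of l ?_
    have h := hlk (p ^ k)
    rw [hpk, Matrix.one_mulVec] at h
    by_contra hne
    have h' : (l ^ p ^ k - 1) • r = 0 := by rw [sub_smul, one_smul, ← h, sub_self]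
    exact hr ((smul_eq_zero.1 h').resolve_left (sub_ne_zero.2 hne))
  rw [hl1, one_smul] at hl
  refine ⟨hl, fun v hv => ?_⟩
  by_cases hvr : ∃ c : K, v = c • r
  · obtain ⟨c, rfl⟩ := hvr
    exact ⟨0, by rw [Matrix.mulVec_smul, hl, zero_smul, add_zero]⟩
  simp only [not_exists] at hvr
  have hgv : hf (p ^ n) (mat g *ᵥ v) r = 0 := by
    conv_lhs => rw [← hl, mat_preserves]
    exact hv
  have hvv : hf (p ^ n) v v ≠ 0 := fun e => by
    obtain ⟨c, hc⟩ := isotropic_line hK hr hrr e hv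
    exact hvr c hc
  set a := hf (p ^ n) (mat g *ᵥ v) v / hf (p ^ n) v v with ha
  have hrv : hf (p ^ n) r v = 0 := by
    rw [hf_swap hK v r, hv, zero_pow (pow_ne_zero n (Fact.out : p.Prime).ne_zero)]
  obtain ⟨c, hc⟩ := proportional_of_orth (sigma_bij hK).1 (sigma_bij hK).2 hvr hr hr hrv hrr
    (w := mat g *ᵥ v - a • v) (by rw [hf_sub, hf_smul, ha, div_mul_cancel₀ _ hvv, sub_self])
    (by rw [hf_sub, hf_smul, hgv, hv, mul_zero, sub_self])
  rw [sub_eq_iff_eq_add'] at hc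
  have hak : ∀ m : ℕ, ∃ d : K, mat g ^ m *ᵥ v = a ^ m • v + d • r := by
    intro m
    induction m with
    | zero => exact ⟨0, by simp⟩
    | succ m ih =>
      obtain ⟨d, hd⟩ := ih
      refine ⟨a ^ m * c + d, ?_⟩
      rw [pow_succ', ← Matrix.mulVec_mulVec, hd, Matrix.mulVec_add, Matrix.mulVec_smul, Matrix.mulVec_smul, hc, hl,
        smul_add, smul_smul, smul_smul, add_smul, pow_succ, add_assoc]
  have ha1 : a = 1 := by
    refine one_of a ?_
    obtain ⟨d, hd⟩ := hak (p ^ k)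
    rw [hpk, Matrix.one_mulVec] at hd
    by_contra hne
    refine hvr ((1 - a ^ p ^ k)⁻¹ * d) ?_
    have : (1 - a ^ p ^ k) • v = d • r := by rw [sub_smul, one_smul, sub_eq_iff_eq_add']; exact hd
    rw [mul_smul, ← this, inv_smul_smul₀ (sub_ne_zero.2 (Ne.symm hne))]
  exact ⟨c, by rw [hc, ha1, one_smul]⟩

theorem local_pclosed (P : Subgroup (Cfsg.SU 3 K (p ^ n))) (hP : IsPGroup p P) (hne : P ≠ ⊥)
    (a : Cfsg.SU 3 K (p ^ n)) (ha : a ∈ Subgroup.normalizer (P : Set (Cfsg.SU 3 K (p ^ n))))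
    (b : Cfsg.SU 3 K (p ^ n)) (hb : b ∈ Subgroup.normalizer (P : Set (Cfsg.SU 3 K (p ^ n))))
    (hap : IsPElt p a) (hbp : IsPElt p b) : IsPElt p (a * b) := by
  obtain ⟨r, hr, hfix, horth⟩ := exists_fixed_radical hK hP hne
  have hrr := horth r hfix
  have hline : ∀ g ∈ Subgroup.normalizer (P : Set (Cfsg.SU 3 K (p ^ n))), ∃ l : K, mat g *ᵥ r = l • r := by
    intro g hg
    have hfix' : ∀ h ∈ P, mat h *ᵥ (mat g *ᵥ r) = mat g *ᵥ r := fun h hh => by
      rw [← mat_mul, show h * g = g * (g⁻¹ * h * g) by group, mat_mul,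
        hfix _ ((Subgroup.mem_normalizer_iff''.1 hg h).1 hh)]
    refine isotropic_line hK hr hrr (by rw [mat_preserves]; exact hrr) ?_
    rw [hf_swap hK r (mat g *ᵥ r), horth _ hfix', zero_pow (pow_ne_zero n (Fact.out : p.Prime).ne_zero)]
  exact inRadical_pelt hK (inRadical_mul hK (pelt_inRadical hK hr hrr (hline a ha) hap)
    (pelt_inRadical hK hr hrr (hline b hb) hbp))

end Cfsg.Lib.U3Qd
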